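import Groth.Agent.FlatEquidim.Locus
import Groth.Agent.DimTheory.Fibre
import Groth.Agent.FieldExtLD.Scheme
import Mathlib.AlgebraicGeometry.Morphisms.Flat

/-!
# Fibre dimension near generic points of fibres of flat morphisms
-/

set_option autoImplicit false

universe u

open CategoryTheory AlgebraicGeometry TopologicalSpace Groth.Agent.DimTheory

namespace Groth.Agent.FlatEquidim

variable {X Y : Scheme.{u}} (f : X ⟶ Y)

/-- `x` has no proper generization in its fibre. -/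
def IsFibreMax (x : X) : Prop := ∀ z : X, z ⤳ x → f z = f x → z = x

theorem evaluation_comp {V : Y.Opens} {U : X.Opens} (e : U ≤ f ⁻¹ᵁ V) {x : X} (hx : x ∈ U) (r : Γ(Y, V)) :
    (X.presheaf.germ U x hx ≫ X.residue x).hom (f.appLE V U e r) =
      (f.residueFieldMap x).hom ((Y.presheaf.germ V (f x) (e hx) ≫ Y.residue (f x)).hom r) := by
  have h1 := ConcreteCategory.congr_hom (Scheme.residue_residueFieldMap f x)
    (Y.presheaf.germ V (f x) (e hx) r)
  simp only [CommRingCat.comp_apply] at h1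
  refine Eq.trans ?_ h1.symm
  show X.residue x (X.presheaf.germ U x hx (f.appLE V U e r)) = _
  congr 1
  rw [f.germ_stalkMap_apply V x (e hx) r, Scheme.Hom.appLE, CommRingCat.comp_apply,
    X.presheaf.germ_res_apply]

theorem specializes_iff_le {U : X.Opens} (hU : IsAffineOpen U) {y z : X} (hy : y ∈ U) (hz : z ∈ U) :
    z ⤳ y ↔ (hU.primeIdealOf ⟨z, hz⟩).asIdeal ≤ (hU.primeIdealOf ⟨y, hy⟩).asIdeal := by
  have a := hU.fromSpec.isOpenEmbedding.isInducing.specializes_iff
    (x := hU.primeIdealOf ⟨z, hz⟩) (y := hU.primeIdealOf ⟨y, hy⟩)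
  rw [hU.fromSpec_primeIdealOf, hU.fromSpec_primeIdealOf] at a
  exact a.trans (PrimeSpectrum.le_iff_specializes _ _).symm

theorem map_eq_iff_comap_eq {V : Y.Opens} (hV : IsAffineOpen V) {U : X.Opens} (hU : IsAffineOpen U)
    (e : U ≤ f ⁻¹ᵁ V) {y z : X} (hy : y ∈ U) (hz : z ∈ U) :
    f z = f y ↔ (hU.primeIdealOf ⟨z, hz⟩).asIdeal.comap (f.appLE V U e).hom =
      (hU.primeIdealOf ⟨y, hy⟩).asIdeal.comap (f.appLE V U e).hom := by
  have h : ∀ (w : X) (hw : w ∈ U), (hU.primeIdealOf ⟨w, hw⟩).asIdeal.comap (f.appLE V U e).hom =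
      (hV.primeIdealOf ⟨f w, e hw⟩).asIdeal := fun w hw =>
    congrArg PrimeSpectrum.asIdeal (IsAffineOpen.comap_primeIdealOf_appLE (f := f) V hV U hU e hw)
  rw [h z hz, h y hy]
  refine ⟨fun heq => by simp only [heq], fun heq => ?_⟩
  exact (hV.fromSpec_primeIdealOf ⟨f z, e hz⟩).symm.trans
    ((congrArg hV.fromSpec (PrimeSpectrum.ext heq)).trans (hV.fromSpec_primeIdealOf ⟨f y, e hy⟩))

theorem exists_point {U : X.Opens} (hU : IsAffineOpen U) (Q : PrimeSpectrum Γ(X, U)) :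
    ∃ (z : X) (hz : z ∈ U), hU.primeIdealOf ⟨z, hz⟩ = Q :=
  ⟨hU.fromSpec Q, hU.range_fromSpec.le ⟨Q, rfl⟩,
    hU.fromSpec.isOpenEmbedding.injective (hU.fromSpec_primeIdealOf _)⟩

theorem isFibreMax_iff {V : Y.Opens} (hV : IsAffineOpen V) {U : X.Opens} (hU : IsAffineOpen U)
    (e : U ≤ f ⁻¹ᵁ V) {y : X} (hy : y ∈ U) :
    IsFibreMax f y ↔ ∀ Q : Ideal Γ(X, U), Q.IsPrime → Q ≤ (hU.primeIdealOf ⟨y, hy⟩).asIdeal →
      Q.comap (f.appLE V U e).hom = (hU.primeIdealOf ⟨y, hy⟩).asIdeal.comap (f.appLE V U e).hom →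
      Q = (hU.primeIdealOf ⟨y, hy⟩).asIdeal := by
  refine ⟨fun h Q hQ hle hc => ?_, fun h z hsp hfz => ?_⟩
  · obtain ⟨z, hz, hzQ⟩ := exists_point hU ⟨Q, hQ⟩
    have hzQ' : (hU.primeIdealOf ⟨z, hz⟩).asIdeal = Q := congrArg PrimeSpectrum.asIdeal hzQ
    rw [← hzQ'] at hle hc ⊢
    obtain rfl := h z ((specializes_iff_le hU hy hz).2 hle) ((map_eq_iff_comap_eq f hV hU e hy hz).2 hc)
    rfl
  · have hz : z ∈ U := hsp.mem_open U.isOpen hy
    have := h _ inferInstance ((specializes_iff_le hU hy hz).1 hsp)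
      ((map_eq_iff_comap_eq f hV hU e hy hz).1 hfz)
    exact (hU.fromSpec_primeIdealOf ⟨z, hz⟩).symm.trans
      ((congrArg hU.fromSpec (PrimeSpectrum.ext this)).trans (hU.fromSpec_primeIdealOf ⟨y, hy⟩))

/-- Near a point which is generic in its fibre, a flat morphism of finite presentation is quasi-finite
and flat over an affine space. -/
theorem exists_nbhd [Flat f] [LocallyOfFinitePresentation f] (x : X) (hx : IsFibreMax f x)
    {V : Y.Opens} (hV : IsAffineOpen V) (hxV : f x ∈ V) :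
    ∃ (d : ℕ) (U W : X.Opens) (hU : IsAffineOpen U) (e : U ≤ f ⁻¹ᵁ V) (hWU : W ≤ U), x ∈ W ∧
      (∀ y ∈ W, IsFibreMax f y → mapTrdeg f y = d) ∧
      ∃ π : MvPolynomial (Fin d) Γ(Y, V) →+* Γ(X, U),
        π.comp MvPolynomial.C = (f.appLE V U e).hom ∧
        ∀ (y : X) (hy : y ∈ W), IsFibreMax f y ↔ (hU.primeIdealOf ⟨y, hWU hy⟩).asIdeal.comap π =
          ((hU.primeIdealOf ⟨y, hWU hy⟩).asIdeal.comap (f.appLE V U e).hom).map MvPolynomial.C := by
  obtain ⟨U, hU, hxU, e⟩ := X.isBasis_affineOpens.exists_subset_of_mem_open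
    (show x ∈ (f ⁻¹ᵁ V : X.Opens) from hxV) (f ⁻¹ᵁ V).isOpen
  obtain ⟨U, hU, rfl⟩ := hU
  let _ : Algebra Γ(Y, V) Γ(X, U) := (f.appLE V U e).hom.toAlgebra
  have : Algebra.FinitePresentation Γ(Y, V) Γ(X, U) := f.finitePresentation_appLE hV hU e
  have : Module.Flat Γ(Y, V) Γ(X, U) :=
    HasRingHomProperty.appLE (P := @Flat) f inferInstance ⟨V, hV⟩ ⟨U, hU⟩ e
  let evK := fun (y : X) (hy : y ∈ U) => (Y.presheaf.germ V (f y) (e hy) ≫ Y.residue (f y)).hom
  let evL := fun (y : X) (hy : y ∈ U) => (X.presheaf.germ U y hy ≫ X.residue y).hom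
  let q := (hU.primeIdealOf ⟨x, hxU⟩).asIdeal
  let _ : Algebra Γ(Y, V) (Y.residueField (f x)) := (evK x hxU).toAlgebra
  let _ : Algebra Γ(X, U) (X.residueField x) := (evL x hxU).toAlgebra
  let _ : Algebra (Y.residueField (f x)) (X.residueField x) := (f.residueFieldMap x).hom.toAlgebra
  obtain ⟨d, s, hind, halg⟩ := exists_generators (R := Γ(Y, V)) (S := Γ(X, U))
    (K := Y.residueField (f x)) (L := X.residueField x) (evaluation_comp f e hxU)
    (exists_eq_div hU hxU)
  let π : MvPolynomial (Fin d) Γ(Y, V) →ₐ[Γ(Y, V)] Γ(X, U) := MvPolynomial.aeval s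
  let _ : Algebra (MvPolynomial (Fin d) Γ(Y, V)) Γ(X, U) := π.toRingHom.toAlgebra
  have : IsScalarTower Γ(Y, V) (MvPolynomial (Fin d) Γ(Y, V)) Γ(X, U) :=
    IsScalarTower.of_algebraMap_eq fun r => (π.commutes r).symm
  have hX : ∀ i, algebraMap (MvPolynomial (Fin d) Γ(Y, V)) Γ(X, U) (MvPolynomial.X i) = s i :=
    fun i => MvPolynomial.aeval_X _ _
  have hker : RingHom.ker (algebraMap Γ(X, U) (X.residueField x)) = q := ker_evaluation hU hxU
  have hqc : q.comap (algebraMap Γ(Y, V) Γ(X, U)) =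
      RingHom.ker (algebraMap Γ(Y, V) (Y.residueField (f x))) := by
    show _ = RingHom.ker (evK x hxU)
    rw [ker_evaluation hV (e hxU)]
    exact congrArg PrimeSpectrum.asIdeal (IsAffineOpen.comap_primeIdealOf_appLE (f := f) V hV U hU e hxU)
  have hTq : q.comap (algebraMap (MvPolynomial (Fin d) Γ(Y, V)) Γ(X, U)) =
      (q.comap (algebraMap Γ(Y, V) Γ(X, U))).map MvPolynomial.C := by
    rw [hqc, ← hker]
    exact comap_eq_map_C (evaluation_comp f e hxU) (by simpa only [hX] using hind)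
  have : Module.Flat Γ(Y, V) (LocalizedModule q.primeCompl Γ(X, U)) :=
    inferInstanceAs (Module.Flat Γ(Y, V) (Localization.AtPrime q))
  have := flat_chart q hTq
  have : Algebra.QuasiFiniteAt (MvPolynomial (Fin d) Γ(Y, V)) q :=
    quasiFiniteAt_chart ((isFibreMax_iff f hV hU e hxU).1 hx) (evaluation_comp f e hxU)
      (exists_eq_div hV (e hxU)) hker (by
        rw [funext fun i => congrArg (algebraMap Γ(X, U) (X.residueField x)) (hX i)]
        exact halg)
  obtain ⟨g, hgq, hg⟩ := exists_good (R := Γ(Y, V)) (d := d) q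
  have mem : ∀ (y : X) (hy : y ∈ U), y ∈ X.basicOpen g ↔ g ∉ (hU.primeIdealOf ⟨y, hy⟩).asIdeal := by
    intro y hy
    rw [← X.evaluation_ne_zero_iff_mem_basicOpen y hy g, ← ker_evaluation hU hy]
    rfl
  refine ⟨d, U, X.basicOpen g, hU, e, X.basicOpen_le g, (mem x hxU).2 hgq, fun y hy hmax => ?_,
    π.toRingHom, RingHom.ext fun r => π.commutes r, fun y hy => ?_⟩
  · have hyU := X.basicOpen_le g hy
    obtain ⟨h1, h2⟩ := hg _ ((mem y hyU).1 hy)
    have hP := comap_eq_of_minimal (d := d) _ ((isFibreMax_iff f hV hU e hyU).1 hmax)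
    let _ : Algebra Γ(Y, V) (Y.residueField (f y)) := (evK y hyU).toAlgebra
    let _ : Algebra Γ(X, U) (X.residueField y) := (evL y hyU).toAlgebra
    let _ : Algebra (Y.residueField (f y)) (X.residueField y) := (f.residueFieldMap y).hom.toAlgebra
    exact trdeg_eq _ hP (evaluation_comp f e hyU) (exists_eq_div hV (e hyU)) (ker_evaluation hU hyU)
      (exists_eq_div hU hyU)
  · have hyU := X.basicOpen_le g hy
    obtain ⟨h1, h2⟩ := hg _ ((mem y hyU).1 hy)
    exact ⟨fun hmax => comap_eq_of_minimal (d := d) _ ((isFibreMax_iff f hV hU e hyU).1 hmax),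
      fun h => (isFibreMax_iff f hV hU e hyU).2 fun Q hQ hle hc => minimal_of_comap_eq (d := d) _ h Q hle hc⟩

theorem mapTrdeg_comp {Z : Scheme.{u}} (g : X ⟶ Y) (h : Y ⟶ Z) (x : X) :
    mapTrdeg (g ≫ h) x = mapTrdeg h (g x) + mapTrdeg g x := by
  let _ : Algebra (Z.residueField (h (g x))) (Y.residueField (g x)) := (h.residueFieldMap (g x)).hom.toAlgebra
  let _ : Algebra (Z.residueField (h (g x))) (X.residueField x) := ((g ≫ h).residueFieldMap x).hom.toAlgebra
  let _ : Algebra (Y.residueField (g x)) (X.residueField x) := (g.residueFieldMap x).hom.toAlgebra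
  have : IsScalarTower (Z.residueField (h (g x))) (Y.residueField (g x)) (X.residueField x) :=
    .of_algebraMap_eq' (congrArg CommRingCat.Hom.hom (Scheme.residueFieldMap_comp g h x))
  exact (trdeg_add_eq (Z.residueField (h (g x))) (Y.residueField (g x)) (A := X.residueField x)).symm

theorem fiberι_apply_eq (s : Y) (z : f.fiber s) : f (f.fiberι s z) = s := by
  have : f.fiberι s z ∈ Set.range (f.fiberι s) := ⟨z, rfl⟩
  rwa [Scheme.Hom.range_fiberι] at this

theorem resTrdeg_fiber_eq (s : Y) (z : f.fiber s) :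
    resTrdeg (k := Y.residueField s) (f.fiberToSpecResidueField s) z = mapTrdeg f (f.fiberι s z) := by
  have h : mapTrdeg (f.fiberι s ≫ f) z =
      mapTrdeg (f.fiberToSpecResidueField s ≫ Y.fromSpecResidueField s) z := by
    rw [Scheme.Hom.fiber_fac]
  rw [mapTrdeg_comp, mapTrdeg_comp, mapTrdeg_eq_zero (f.fiberι s), mapTrdeg_eq_zero (Y.fromSpecResidueField s),
    add_zero, zero_add] at h
  have h2 := resTrdeg_comp (k := Y.residueField s) (𝟙 (Spec (Y.residueField s))) (f.fiberToSpecResidueField s) z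
  rw [show resTrdeg (k := Y.residueField s) (𝟙 (Spec (Y.residueField s))) (f.fiberToSpecResidueField s z) = 0
    from resTrdeg_id _ _, zero_add, Category.comp_id] at h2
  exact h2.trans h.symm

theorem fibreDimAt_eq [LocallyOfFiniteType f] {W : X.Opens} {d : ℕ}
    (h : ∀ y ∈ W, IsFibreMax f y → mapTrdeg f y = d) {y : X} (hy : y ∈ W) :
    FlatMor.fibreDimAt f y = d := by
  let ft := f.fiberToSpecResidueField (f y)
  have : LocallyOfFiniteType ft := MorphismProperty.pullback_snd _ _ ‹_›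
  obtain ⟨m, hle, hm, heq⟩ := exists_height_eq_add_coheight (k := Y.residueField (f y)) ft (f.asFiber y)
  obtain ⟨n, hn, hn'⟩ := exists_height_eq (k := Y.residueField (f y)) ft m
  have hmW : f.fiberι (f y) m ∈ W := by
    refine Specializes.mem_open ?_ W.isOpen hy
    conv_rhs => rw [← f.fiberι_asFiber y]
    exact (show m ⤳ f.asFiber y from hle).map (f.fiberι (f y)).continuous
  have hmax : IsFibreMax f (f.fiberι (f y) m) := by
    intro z hz hfz
    obtain ⟨w, rfl⟩ : z ∈ Set.range (f.fiberι (f y)) := by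
      rw [Scheme.Hom.range_fiberι]; exact hfz.trans (fiberι_apply_eq f _ m)
    have hwm : w ⤳ m := (f.fiberι (f y)).isEmbedding.isInducing.specializes_iff.1 hz
    have hmw : m ⤳ w := hm w hwm
    rw [(hwm.antisymm hmw).eq]
  rw [resTrdeg_fiber_eq, h _ hmW hmax] at hn
  show FlatMor.localDim (f.fiber (f y)) (f.asFiber y) = _
  rw [FieldExtLD.localDim_eq (k := Y.residueField (f y)) ft, ← heq, hn',
    ← Nat.cast_injective (R := Cardinal.{u}) hn]
  rfl

theorem exists_nbhd_fibreDimAt [Flat f] [LocallyOfFinitePresentation f] (x : X) (hx : IsFibreMax f x) :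
    ∃ (d : ℕ) (W : X.Opens), x ∈ W ∧ ∀ y ∈ W, FlatMor.fibreDimAt f y = d := by
  obtain ⟨_, ⟨V, hV, rfl⟩, hxV, -⟩ := Y.isBasis_affineOpens.exists_subset_of_mem_open
    (Set.mem_univ (f x)) isOpen_univ
  obtain ⟨d, U, W, -, -, -, hxW, h, -⟩ := exists_nbhd f x hx hV hxV
  exact ⟨d, W, hxW, fun y hy => fibreDimAt_eq f h hy⟩

theorem isFibreMax_of_genericPoint (x : X)
    (hgen : ∃ Z ∈ irreducibleComponents ↥(f.fiber (f x)), IsGenericPoint (f.asFiber x) Z) :
    IsFibreMax f x := by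
  obtain ⟨Z, hZ, hxZ⟩ := hgen
  intro z hz hfz
  obtain ⟨w, rfl⟩ : z ∈ Set.range (f.fiberι (f x)) := by
    rw [Scheme.Hom.range_fiberι]; exact hfz
  have hw : w ⤳ f.asFiber x := (f.fiberι (f x)).isEmbedding.isInducing.specializes_iff.1
    (by rwa [f.fiberι_asFiber])
  have : closure {w} ⊆ Z := hZ.2 isIrreducible_singleton.closure
    (hxZ.def ▸ hw.closure_subset)
  have hxw : f.asFiber x ⤳ w := hxZ.specializes (this (subset_closure rfl))
  rw [(hw.antisymm hxw).eq, f.fiberι_asFiber]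

end Groth.Agent.FlatEquidim
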