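import Groth.Agent.FlatEquidim.Chart

/-!
# The good locus of a chart
-/

set_option autoImplicit false

universe u

open scoped TensorProduct

namespace Groth.Agent.FlatEquidim

variable {R S : Type u} [CommRing R] [CommRing S] [Algebra R S] {d : ℕ}
  [Algebra (MvPolynomial (Fin d) R) S] [IsScalarTower R (MvPolynomial (Fin d) R) S]

theorem quasiFiniteAt_chart [Algebra.FiniteType R S] {q : Ideal S} [q.IsPrime]
    (hmin : ∀ P : Ideal S, P.IsPrime → P ≤ q → P.comap (algebraMap R S) = q.comap (algebraMap R S) → P = q)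
    {K L : Type u} [Field K] [Field L] [Algebra R K] [Algebra S L] [Algebra K L]
    (hc : ∀ r, algebraMap S L (algebraMap R S r) = algebraMap K L (algebraMap R K r))
    (hK : ∀ z : K, ∃ a b, z = algebraMap R K a / algebraMap R K b)
    (hker : RingHom.ker (algebraMap S L) = q)
    (halg : Algebra.IsAlgebraic (Algebra.adjoin K (Set.range fun i =>
      algebraMap S L (algebraMap _ S (MvPolynomial.X i : MvPolynomial (Fin d) R)))) L) :
    Algebra.QuasiFiniteAt (MvPolynomial (Fin d) R) q := by
  classical
  let T := MvPolynomial (Fin d) R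
  have : Algebra.FiniteType T S := Algebra.FiniteType.of_restrictScalars_finiteType R T S
  let x := fun i => algebraMap S L (algebraMap T S (MvPolynomial.X i))
  let n := q.comap (algebraMap T S)
  have closed : ∀ Q : Ideal S, Q.IsPrime → q ≤ Q → Q.comap (algebraMap T S) = n → Q = q := by
    intro Q hQ hqQ hQn
    refine le_antisymm (fun g hg => by_contra fun hgq => ?_) hqQ
    have hg0 : algebraMap S L g ≠ 0 := fun h => hgq (hker ▸ RingHom.mem_ker.2 h)
    obtain ⟨p, hp0, hpg⟩ := halg.isAlgebraic (algebraMap S L g)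
    obtain ⟨p', hp', hm⟩ := Polynomial.exists_eq_pow_rootMultiplicity_mul_and_not_dvd p hp0 0
    rw [map_zero, sub_zero] at hp' hm
    have hev : Polynomial.aeval (algebraMap S L g) p' = 0 := by
      rw [hp', map_mul, map_pow, Polynomial.aeval_X, mul_eq_zero] at hpg
      exact hpg.resolve_left (pow_ne_zero _ hg0)
    have h0 : p'.coeff 0 ≠ 0 := fun h => hm (Polynomial.X_dvd_iff.2 h)
    have hrange : Set.range x = algebraMap S L '' Set.range (fun i => algebraMap T S (MvPolynomial.X i)) := by
      rw [← Set.range_comp]; rfl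
    have e : Algebra.adjoin K (Set.range x) = Algebra.adjoin K
        (algebraMap S L '' Set.range (fun i => algebraMap T S (MvPolynomial.X i))) := by rw [hrange]
    obtain ⟨r, P, hr, hcoeff, hP⟩ := DimTheory.exists_clear (R := R) (S := S) (algebraMap R K) hK
      (algebraMap S L) hc (Set.range fun i => algebraMap T S (MvPolynomial.X i))
      (p'.map (Subalgebra.equivOfEq _ _ e).toAlgHom.toRingHom)
    have hmap : (p'.map (Subalgebra.equivOfEq _ _ e).toAlgHom.toRingHom).map
        (algebraMap _ L) = p'.map (algebraMap _ L) := by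
      rw [Polynomial.map_map]; rfl
    rw [hmap] at hP
    have hPg : P.eval g ∈ q := by
      rw [← hker, RingHom.mem_ker, ← Polynomial.eval_map_apply, hP, Polynomial.eval_mul,
        Polynomial.eval_map_algebraMap, hev, mul_zero]
    have hc0 : P.coeff 0 ∉ q := by
      rw [← hker, RingHom.mem_ker, ← Polynomial.coeff_map, hP, Polynomial.coeff_C_mul, Polynomial.coeff_map]
      refine mul_ne_zero ((map_ne_zero _).2 hr) fun h => h0 ?_
      exact Subtype.ext h
    have hc0' : P.coeff 0 ∈ Q := by
      have h1 : P.eval g - P.coeff 0 ∈ Q := by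
        obtain ⟨P', hP'⟩ : Polynomial.X ∣ P - Polynomial.C (P.coeff 0) :=
          Polynomial.X_dvd_iff.2 (by simp)
        have := congrArg (Polynomial.eval g) hP'
        simp only [Polynomial.eval_sub, Polynomial.eval_C, Polynomial.eval_mul, Polynomial.eval_X] at this
        rw [this]
        exact Q.mul_mem_right _ hg
      simpa using Q.sub_mem (hqQ hPg) h1
    obtain ⟨t, ht⟩ : ∃ t : T, algebraMap T S t = P.coeff 0 := by
      have h := hcoeff 0
      rw [Algebra.adjoin_range_eq_range_aeval] at h
      obtain ⟨t, ht⟩ := h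
      refine ⟨t, Eq.trans ?_ ht⟩
      exact AlgHom.congr_fun (MvPolynomial.aeval_unique (IsScalarTower.toAlgHom R T S)) t
    have : t ∈ n := hQn ▸ Ideal.mem_comap.2 (ht ▸ hc0')
    exact hc0 (ht ▸ this)
  have minim : ∀ P : Ideal S, P.IsPrime → P ≤ q → P.comap (algebraMap T S) = n → P = q := by
    intro P hP hPq hPn
    refine hmin P hP hPq ?_
    have := congrArg (Ideal.comap (algebraMap R T)) hPn
    simpa only [n, Ideal.comap_comap, ← IsScalarTower.algebraMap_eq] using this
  rw [Algebra.quasiFiniteAt_iff_isOpen_singleton_fiber (q := ⟨q, inferInstance⟩)]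
  let nT : PrimeSpectrum T := (⟨q, inferInstance⟩ : PrimeSpectrum S).comap (algebraMap T S)
  let e := PrimeSpectrum.preimageOrderIsoFiber T S nT
  let eh := PrimeSpectrum.preimageHomeomorphFiber T S nT
  rw [← eh.isOpen_image, Set.image_singleton]
  let z : PrimeSpectrum (nT.asIdeal.Fiber S) := eh ⟨⟨q, inferInstance⟩, rfl⟩
  have : IsNoetherianRing (nT.asIdeal.Fiber S) :=
    Algebra.FiniteType.isNoetherianRing nT.asIdeal.ResidueField _
  have : IsJacobsonRing (nT.asIdeal.Fiber S) := isJacobsonRing_of_finiteType (A := nT.asIdeal.ResidueField)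
  refine ((PrimeSpectrum.isOpen_singleton_tfae_of_isNoetherian_of_isJacobsonRing z).out 0 2).2 ?_
  have key : ∀ w : PrimeSpectrum (nT.asIdeal.Fiber S), (w ≤ z ∨ z ≤ w) → w = z := by
    intro w hw
    obtain ⟨⟨Q, hQ⟩, rfl⟩ := e.surjective w
    have hQn : Q.asIdeal.comap (algebraMap T S) = n := congrArg PrimeSpectrum.asIdeal hQ
    have hle : (Q ≤ ⟨q, inferInstance⟩ ∨ (⟨q, inferInstance⟩ : PrimeSpectrum S) ≤ Q) :=
      hw.imp (fun h => e.le_iff_le.1 h) (fun h => e.le_iff_le.1 h)
    have : Q = ⟨q, inferInstance⟩ := PrimeSpectrum.ext (hle.elim (fun h => minim _ Q.isPrime h hQn)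
      (fun h => closed _ Q.isPrime h hQn))
    subst this
    rfl
  refine ⟨?_, fun w w' hsp hw => ?_⟩
  · rw [PrimeSpectrum.isClosed_singleton_iff_isMaximal]
    obtain ⟨M, hM, hle⟩ := Ideal.exists_le_maximal _ z.isPrime.ne_top
    have := key ⟨M, hM.isPrime⟩ (Or.inr hle)
    rw [← this]; exact hM
  · rw [Set.mem_singleton_iff] at hw ⊢
    exact key w' (Or.inl (hw ▸ (PrimeSpectrum.le_iff_specializes _ _).2 hsp))

theorem exists_good [Algebra.FinitePresentation R S] (q : Ideal S) [q.IsPrime]
    [Module.Flat (MvPolynomial (Fin d) R) (LocalizedModule q.primeCompl S)]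
    [Algebra.QuasiFiniteAt (MvPolynomial (Fin d) R) q] :
    ∃ g ∉ q, ∀ P : PrimeSpectrum S, g ∉ P.asIdeal →
      Module.Flat (MvPolynomial (Fin d) R) (LocalizedModule P.asIdeal.primeCompl S) ∧
      Algebra.QuasiFiniteAt (MvPolynomial (Fin d) R) P.asIdeal := by
  have : Algebra.FinitePresentation (MvPolynomial (Fin d) R) S :=
    Algebra.FinitePresentation.of_restrict_scalars_finitePresentation R _ S
  have h1 := FlatLocus.isOpen_flatLocus (B := MvPolynomial (Fin d) R) (S := S) (M := S)
  have h2 := Hensel.isOpen_quasiFiniteAt (A := MvPolynomial (Fin d) R) (R := S)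
  obtain ⟨_, ⟨g, rfl⟩, hg, hsub⟩ := PrimeSpectrum.isTopologicalBasis_basic_opens.exists_subset_of_mem_open
    (a := (⟨q, inferInstance⟩ : PrimeSpectrum S)) (Set.mem_inter ‹_› ‹_›) (h1.inter h2)
  exact ⟨g, hg, fun P hP => hsub hP⟩

/-- Primes of the good locus minimal in their fibre lie over generic points of fibres of affine space. -/
theorem comap_eq_of_minimal (P : Ideal S) [P.IsPrime]
    [Module.Flat (MvPolynomial (Fin d) R) (LocalizedModule P.primeCompl S)]
    (hmin : ∀ Q : Ideal S, Q.IsPrime → Q ≤ P → Q.comap (algebraMap R S) = P.comap (algebraMap R S) → Q = P) :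
    P.comap (algebraMap (MvPolynomial (Fin d) R) S) = (P.comap (algebraMap R S)).map MvPolynomial.C := by
  let T := MvPolynomial (Fin d) R
  let p := P.comap (algebraMap R S)
  have hp : (p.map (MvPolynomial.C (σ := Fin d))).IsPrime := isPrime_map_C p
  have hle : p.map MvPolynomial.C ≤ P.comap (algebraMap T S) := by
    rw [Ideal.map_le_iff_le_comap, Ideal.comap_comap, ← MvPolynomial.algebraMap_eq, ← IsScalarTower.algebraMap_eq]
  have : Module.Flat T (Localization.AtPrime P) := ‹_›
  let m := IsLocalRing.maximalIdeal (Localization.AtPrime P)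
  have hm : m.under T = P.comap (algebraMap T S) := by
    rw [Ideal.under_def, IsScalarTower.algebraMap_eq T S (Localization.AtPrime P), ← Ideal.comap_comap]
    exact congrArg (Ideal.comap (algebraMap T S)) (Localization.AtPrime.under_maximalIdeal)
  obtain ⟨Q, -, hQ, hQo⟩ := Ideal.exists_ideal_le_liesOver_of_le (p := p.map MvPolynomial.C)
    (q := m.under T) m (hle.trans hm.ge)
  have hQc : (Q.comap (algebraMap S (Localization.AtPrime P))).comap (algebraMap T S) = p.map MvPolynomial.C := by
    rw [Ideal.comap_comap, ← IsScalarTower.algebraMap_eq]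
    exact hQo.over.symm
  have hQP : Q.comap (algebraMap S (Localization.AtPrime P)) ≤ P :=
    (Ideal.comap_mono (IsLocalRing.le_maximalIdeal hQ.ne_top)).trans Localization.AtPrime.under_maximalIdeal.le
  have hQR : (Q.comap (algebraMap S (Localization.AtPrime P))).comap (algebraMap R S) = p := by
    rw [IsScalarTower.algebraMap_eq R T S, ← Ideal.comap_comap, hQc]
    exact comap_map_C p
  rw [← hmin _ inferInstance hQP hQR, hQc]
  rw [hmin _ inferInstance hQP hQR]

/-- Conversely. -/
theorem minimal_of_comap_eq (P : Ideal S) [P.IsPrime] [Algebra.QuasiFiniteAt (MvPolynomial (Fin d) R) P]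
    (hP : P.comap (algebraMap (MvPolynomial (Fin d) R) S) = (P.comap (algebraMap R S)).map MvPolynomial.C)
    (Q : Ideal S) [Q.IsPrime] (hQ : Q ≤ P) (hQR : Q.comap (algebraMap R S) = P.comap (algebraMap R S)) :
    Q = P := by
  refine Algebra.QuasiFiniteAt.eq_of_le_of_under_eq (R := MvPolynomial (Fin d) R) hQ
    (le_antisymm (Ideal.comap_mono hQ) ?_)
  show P.comap _ ≤ _
  rw [hP, ← hQR, Ideal.map_le_iff_le_comap, Ideal.under_def, Ideal.comap_comap,
    ← MvPolynomial.algebraMap_eq, ← IsScalarTower.algebraMap_eq]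

/-- The residue field at such a prime has transcendence degree `d`. -/
theorem trdeg_eq (P : Ideal S) [P.IsPrime] [Algebra.QuasiFiniteAt (MvPolynomial (Fin d) R) P]
    (hP : P.comap (algebraMap (MvPolynomial (Fin d) R) S) = (P.comap (algebraMap R S)).map MvPolynomial.C)
    {K L : Type u} [Field K] [Field L] [Algebra R K] [Algebra S L] [Algebra K L]
    (hc : ∀ r, algebraMap S L (algebraMap R S r) = algebraMap K L (algebraMap R K r))
    (hK : ∀ z : K, ∃ a b, z = algebraMap R K a / algebraMap R K b)
    (hker : RingHom.ker (algebraMap S L) = P)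
    (hL : ∀ z : L, ∃ a b, z = algebraMap S L a / algebraMap S L b) :
    Algebra.trdeg K L = d := by
  classical
  let T := MvPolynomial (Fin d) R
  let x := fun i => algebraMap S L (algebraMap T S (MvPolynomial.X i))
  have hkerK : RingHom.ker (algebraMap R K) = P.comap (algebraMap R S) := by
    ext r
    rw [RingHom.mem_ker, Ideal.mem_comap, ← hker, RingHom.mem_ker, hc, map_eq_zero (algebraMap K L)]
  have hkerT : ∀ Q : T, algebraMap S L (algebraMap T S Q) = 0 → MvPolynomial.map (algebraMap R K) Q = 0 := by
    intro Q h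
    have : Q ∈ P.comap (algebraMap T S) := by rw [Ideal.mem_comap, ← hker]; exact h
    rwa [hP, ← hkerK, ← MvPolynomial.ker_map, RingHom.mem_ker] at this
  let n := P.comap (algebraMap T S)
  let A := Algebra.adjoin K (Set.range x)
  have hmem : ∀ Q : T, algebraMap S L (algebraMap T S Q) ∈ A := fun Q => by
    rw [algebraMap_eq_aeval hc, show A = _ from Algebra.adjoin_range_eq_range_aeval K x]
    exact ⟨_, rfl⟩
  have halg : Algebra.IsAlgebraic A L := by
    let C := Subalgebra.algebraicClosure A L
    suffices ∀ g : S, algebraMap S L g ∈ C by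
      refine ⟨fun z => ?_⟩
      obtain ⟨a, b, rfl⟩ := hL z
      rw [div_eq_mul_inv]
      exact C.mul_mem (this a) (show IsAlgebraic _ _ from (this b).inv)
    intro g
    let _ : Algebra (Localization.AtPrime n) (Localization.AtPrime P) :=
      (Localization.localRingHom n P (algebraMap T S) rfl).toAlgebra
    have : P.LiesOver n := ⟨rfl⟩
    let := Localization.AtPrime.algebraOfLiesOver n P
    have : Module.Finite n.ResidueField P.ResidueField := inferInstance
    have hint : IsAlgebraic n.ResidueField (algebraMap S P.ResidueField g) :=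
      (Algebra.IsAlgebraic.of_finite n.ResidueField P.ResidueField).isAlgebraic _
    let _ : Algebra (T ⧸ n) P.ResidueField :=
      ((algebraMap n.ResidueField P.ResidueField).comp (algebraMap (T ⧸ n) n.ResidueField)).toAlgebra
    have : IsScalarTower (T ⧸ n) n.ResidueField P.ResidueField := .of_algebraMap_eq' rfl
    rw [← IsFractionRing.isAlgebraic_iff (T ⧸ n) n.ResidueField] at hint
    obtain ⟨p₀, hp₀, hev⟩ := hint
    obtain ⟨pT, rfl⟩ := Polynomial.map_surjective (Ideal.Quotient.mk n) Ideal.Quotient.mk_surjective p₀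
    have hevP : pT.eval₂ (algebraMap T S) g ∈ P := by
      rw [← Ideal.algebraMap_residueField_eq_zero, Polynomial.hom_eval₂]
      rw [Polynomial.aeval_def, Polynomial.eval₂_map] at hev
      have he : (algebraMap (T ⧸ n) P.ResidueField).comp (Ideal.Quotient.mk n) =
          (algebraMap S P.ResidueField).comp (algebraMap T S) := RingHom.ext fun t => by
        show algebraMap n.ResidueField P.ResidueField (algebraMap (T ⧸ n) n.ResidueField
          (Ideal.Quotient.mk n t)) = algebraMap S P.ResidueField (algebraMap T S t)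
        rw [← Ideal.Quotient.algebraMap_eq, ← IsScalarTower.algebraMap_apply T (T ⧸ n) n.ResidueField,
          ← IsScalarTower.algebraMap_apply T n.ResidueField P.ResidueField,
          ← IsScalarTower.algebraMap_apply T S P.ResidueField]
      rwa [he] at hev
    obtain ⟨i, hi⟩ : ∃ i, pT.coeff i ∉ n := by
      by_contra! h
      exact hp₀ (Polynomial.ext fun i => by
        rw [Polynomial.coeff_map, Polynomial.coeff_zero]; exact Ideal.Quotient.eq_zero_iff_mem.2 (h i))
    let φ : T →+* A := ((algebraMap S L).comp (algebraMap T S)).codRestrict A hmem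
    refine ⟨pT.map φ, fun h => hi ?_, ?_⟩
    · have h' := congrArg Subtype.val ((Polynomial.coeff_map φ i).symm.trans (congrArg (·.coeff i) h))
      rw [Ideal.mem_comap, ← hker]
      simpa [φ] using h'
    · rw [Polynomial.aeval_def, Polynomial.eval₂_map]
      have : (algebraMap A L).comp φ = (algebraMap S L).comp (algebraMap T S) := rfl
      rw [this, ← Polynomial.hom_eval₂]
      rw [← hker] at hevP
      exact hevP
  have hind : AlgebraicIndependent K x := by
    rw [algebraicIndependent_iff]
    intro Q hQ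
    have clear : ∀ Q : MvPolynomial (Fin d) K, ∃ (r : R) (Q₀ : T), algebraMap R K r ≠ 0 ∧
        MvPolynomial.map (algebraMap R K) Q₀ = MvPolynomial.C (algebraMap R K r) * Q := by
      intro Q
      induction Q using MvPolynomial.induction_on with
      | C z =>
        obtain ⟨a, b, rfl⟩ := hK z
        rcases eq_or_ne (algebraMap R K b) 0 with h | h
        · exact ⟨1, 0, by simp, by simp [h]⟩
        · exact ⟨b, MvPolynomial.C a, h, by rw [MvPolynomial.map_C, ← map_mul, mul_div_cancel₀ _ h]⟩
      | add a b ha hb =>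
        obtain ⟨r, a₀, hr, ha⟩ := ha
        obtain ⟨r', b₀, hr', hb⟩ := hb
        exact ⟨r * r', MvPolynomial.C r' * a₀ + MvPolynomial.C r * b₀, by simp [hr, hr'], by
          simp only [map_add, map_mul, MvPolynomial.map_C, ha, hb]; ring⟩
      | mul_X a i ha =>
        obtain ⟨r, a₀, hr, ha⟩ := ha
        exact ⟨r, a₀ * MvPolynomial.X i, hr, by simp [ha, mul_assoc]⟩
    obtain ⟨r, Q₀, hr, hQ₀⟩ := clear Q
    have := hkerT Q₀ (by rw [algebraMap_eq_aeval hc, hQ₀, map_mul, hQ, mul_zero])
    rw [hQ₀] at this
    exact (mul_eq_zero.1 this).resolve_left (by simpa using hr)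
  have hB := hind.isTranscendenceBasis_iff_isAlgebraic.2 halg
  simpa using hB.lift_cardinalMk_eq_trdeg.symm

end Groth.Agent.FlatEquidim
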