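import Groth.Agent.FlatLocus.General
import Groth.Agent.FlatLocus.Model
import Groth.Agent.Hensel.AwayNbhd
import Groth.Agent.DimTheory.GenTrdeg
import Mathlib.RingTheory.MvPolynomial.Tower

/-!
# Charts over affine space at generic points of fibres
-/

set_option autoImplicit false

universe u

open scoped TensorProduct

namespace Groth.Agent.FlatEquidim

variable {R S : Type u} [CommRing R] [CommRing S] [Algebra R S] {d : ℕ}

theorem isPrime_map_C (p : Ideal R) [p.IsPrime] :
    (p.map (MvPolynomial.C (σ := Fin d))).IsPrime := by
  have h : RingHom.ker (MvPolynomial.map (σ := Fin d) (Ideal.Quotient.mk p)) = p.map MvPolynomial.C := by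
    rw [MvPolynomial.ker_map, Ideal.mk_ker]
  exact h ▸ RingHom.ker_isPrime _

theorem comap_map_C (p : Ideal R) :
    (p.map (MvPolynomial.C (σ := Fin d))).comap (algebraMap R (MvPolynomial (Fin d) R)) = p := by
  ext r
  rw [Ideal.mem_comap, MvPolynomial.algebraMap_eq, MvPolynomial.mem_map_C_iff]
  refine ⟨fun h => by simpa using h 0, fun h m => ?_⟩
  rw [MvPolynomial.coeff_C]
  split_ifs
  · exact h
  · exact p.zero_mem

theorem exists_generators [Algebra.FiniteType R S] {K L : Type u} [Field K] [Field L] [Algebra R K]
    [Algebra S L] [Algebra K L]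
    (hc : ∀ r, algebraMap S L (algebraMap R S r) = algebraMap K L (algebraMap R K r))
    (hL : ∀ z : L, ∃ a b, z = algebraMap S L a / algebraMap S L b) :
    ∃ (d : ℕ) (s : Fin d → S), AlgebraicIndependent K (fun i => algebraMap S L (s i)) ∧
      Algebra.IsAlgebraic (Algebra.adjoin K (Set.range fun i => algebraMap S L (s i))) L := by
  classical
  obtain ⟨G, hG⟩ := Algebra.FiniteType.out (R := R) (A := S)
  have h := DimTheory.isAlgebraic_adjoin_of_gens (K := K) (G : Set S) hG (algebraMap S L)
    (fun r => ⟨_, hc r⟩) hL (algebraMap S L '' G)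
    fun g hg => isAlgebraic_algebraMap
      (⟨_, Algebra.subset_adjoin (Set.mem_image_of_mem _ hg)⟩ : Algebra.adjoin K (algebraMap S L '' G))
  have : FaithfulSMul K L := (faithfulSMul_iff_algebraMap_injective _ _).2 (algebraMap K L).injective
  obtain ⟨B, hB, hBs⟩ := (AlgebraicIndependent.matroid_spanning_iff.2 h).exists_isBase_subset
  have hB' := AlgebraicIndependent.matroid_isBase_iff.1 hB
  have : Finite B := ((G.finite_toSet.image _).subset hBs).to_subtype
  obtain ⟨d, ⟨e⟩⟩ := Finite.exists_equiv_fin B
  choose s hs hs' using fun b : B => hBs b.2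
  have hf : (fun i => algebraMap S L (s (e.symm i))) = (fun b : B => (b : L)) ∘ e.symm :=
    funext fun i => hs' _
  refine ⟨d, fun i => s (e.symm i), hf ▸ hB'.1.comp _ e.symm.injective, ?_⟩
  have halg := hB'.isAlgebraic
  rw [Subtype.range_coe] at halg
  rwa [hf, Set.range_comp, e.symm.surjective.range_eq, Set.image_univ, Subtype.range_coe]

variable [Algebra (MvPolynomial (Fin d) R) S] [IsScalarTower R (MvPolynomial (Fin d) R) S]

theorem algebraMap_eq_aeval {K L : Type u} [CommRing K] [CommRing L] [Algebra R K]
    [Algebra S L] [Algebra K L]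
    (hc : ∀ r, algebraMap S L (algebraMap R S r) = algebraMap K L (algebraMap R K r))
    (Q : MvPolynomial (Fin d) R) :
    algebraMap S L (algebraMap _ S Q) =
      MvPolynomial.aeval (fun i => algebraMap S L (algebraMap _ S (MvPolynomial.X i : MvPolynomial (Fin d) R)))
        (MvPolynomial.map (algebraMap R K) Q) := by
  have : (algebraMap S L).comp (algebraMap (MvPolynomial (Fin d) R) S) =
      (MvPolynomial.aeval (R := K) fun i => algebraMap S L (algebraMap _ S
        (MvPolynomial.X i : MvPolynomial (Fin d) R))).toRingHom.comp (MvPolynomial.map (algebraMap R K)) := by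
    refine MvPolynomial.ringHom_ext (fun r => ?_) fun i => by simp
    simp only [RingHom.comp_apply, AlgHom.toRingHom_eq_coe, RingHom.coe_coe, MvPolynomial.map_C,
      MvPolynomial.aeval_C]
    rw [← hc, ← MvPolynomial.algebraMap_eq, ← IsScalarTower.algebraMap_apply R (MvPolynomial (Fin d) R) S]
  exact RingHom.congr_fun this Q

theorem comap_eq_map_C {K L : Type u} [Field K] [Field L] [Algebra R K]
    [Algebra S L] [Algebra K L]
    (hc : ∀ r, algebraMap S L (algebraMap R S r) = algebraMap K L (algebraMap R K r))
    (hind : AlgebraicIndependent K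
      fun i => algebraMap S L (algebraMap _ S (MvPolynomial.X i : MvPolynomial (Fin d) R))) :
    (RingHom.ker (algebraMap S L)).comap (algebraMap (MvPolynomial (Fin d) R) S) =
      (RingHom.ker (algebraMap R K)).map MvPolynomial.C := by
  ext Q
  rw [← MvPolynomial.ker_map, RingHom.mem_ker, Ideal.mem_comap, RingHom.mem_ker,
    algebraMap_eq_aeval hc Q]
  exact ⟨fun h => hind.eq_zero_of_aeval_eq_zero _ h, fun h => by rw [h, map_zero]⟩

/-- The fibrewise criterion: over a field the generic point of affine space has a field as local ring. -/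
theorem flat_chart [Algebra.FinitePresentation R S] (q : Ideal S) [q.IsPrime]
    [Module.Flat R (LocalizedModule q.primeCompl S)]
    (hq : q.comap (algebraMap (MvPolynomial (Fin d) R) S) = (q.comap (algebraMap R S)).map MvPolynomial.C) :
    Module.Flat (MvPolynomial (Fin d) R) (LocalizedModule q.primeCompl S) := by
  have : Nontrivial (LocalizedModule q.primeCompl S) :=
    inferInstanceAs (Nontrivial (Localization.AtPrime q))
  refine (FlatLocus.fibre_criterion (R := R) (S := MvPolynomial (Fin d) R) (S' := S) (M := S) q ?_).1
  intro X Y _ _ _ _ f hX hY hf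
  let n := q.comap (algebraMap (MvPolynomial (Fin d) R) S)
  let T' := Localization.AtPrime n
  let N := Localization.AtPrime q
  let : Algebra T' N := (Localization.localRingHom n q (algebraMap _ S) rfl).toAlgebra
  have : IsScalarTower (MvPolynomial (Fin d) R) T' N := IsScalarTower.of_algebraMap_eq fun t => by
    rw [RingHom.algebraMap_toAlgebra, Localization.localRingHom_to_map, ← IsScalarTower.algebraMap_apply]
  let g : T' ⊗[MvPolynomial (Fin d) R] X →ₗ[T'] T' ⊗[MvPolynomial (Fin d) R] Y := f.baseChange T'
  have hg : Function.Injective g := by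
    rw [show (g : _ → _) = f.lTensor T' from LinearMap.baseChange_eq_ltensor f]
    exact Module.Flat.lTensor_preserves_injective_linearMap f hf
  have kill : ∀ (Z : Type u) [AddCommGroup Z] [Module (MvPolynomial (Fin d) R) Z],
      (∀ r ∈ q.comap (algebraMap R S), ∀ z : Z, algebraMap R (MvPolynomial (Fin d) R) r • z = 0) →
      Module.IsTorsionBySet T' (T' ⊗[MvPolynomial (Fin d) R] Z) (IsLocalRing.maximalIdeal T' : Set T') := by
    intro Z _ _ hZ
    rintro w ⟨a, ha⟩
    show a • w = 0
    suffices IsLocalRing.maximalIdeal T' ≤ LinearMap.ker (LinearMap.toSpanSingleton T' _ w) by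
      simpa using this ha
    rw [← Localization.AtPrime.map_eq_maximalIdeal]
    refine (congrArg (Ideal.map (algebraMap (MvPolynomial (Fin d) R) T')) hq).trans_le ?_
    rw [Ideal.map_map, Ideal.map_le_iff_le_comap]
    intro r hr
    show algebraMap (MvPolynomial (Fin d) R) T' (MvPolynomial.C r) • w = 0
    rw [algebraMap_smul]
    induction w using TensorProduct.induction_on with
    | zero => rw [smul_zero]
    | tmul t z =>
      rw [TensorProduct.smul_tmul', TensorProduct.smul_tmul, ← MvPolynomial.algebraMap_eq, hZ r hr z,
        TensorProduct.tmul_zero]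
    | add a b ha hb => rw [smul_add, ha, hb, add_zero]
  let k := IsLocalRing.ResidueField T'
  let : Field (T' ⧸ IsLocalRing.maximalIdeal T') := Ideal.Quotient.field _
  let := Module.IsTorsionBySet.module (R := T') (M := T' ⊗[MvPolynomial (Fin d) R] X) (kill X hX)
  let := Module.IsTorsionBySet.module (R := T') (M := T' ⊗[MvPolynomial (Fin d) R] Y) (kill Y hY)
  have := Module.IsTorsionBySet.isScalarTower (R := T') (M := T' ⊗[MvPolynomial (Fin d) R] X) (kill X hX) (S := T')
  have := Module.IsTorsionBySet.isScalarTower (R := T') (M := T' ⊗[MvPolynomial (Fin d) R] Y) (kill Y hY) (S := T')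
  let gk : T' ⊗[MvPolynomial (Fin d) R] X →ₗ[T' ⧸ IsLocalRing.maximalIdeal T']
      T' ⊗[MvPolynomial (Fin d) R] Y :=
    LinearMap.extendScalarsOfSurjective Ideal.Quotient.mk_surjective g
  obtain ⟨r, hr⟩ := gk.exists_leftInverse_of_injective (LinearMap.ker_eq_bot.2 hg)
  have key : Function.Injective (LinearMap.lTensor N g) := by
    refine Function.LeftInverse.injective (g := LinearMap.lTensor N (r.restrictScalars T')) fun z => ?_
    rw [← LinearMap.comp_apply, ← LinearMap.lTensor_comp]
    have : r.restrictScalars T' ∘ₗ g = LinearMap.id := LinearMap.ext fun x => LinearMap.congr_fun hr x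
    rw [this, LinearMap.lTensor_id, LinearMap.id_apply]
  let eX := TensorProduct.AlgebraTensorModule.cancelBaseChange (MvPolynomial (Fin d) R) T' T' N X
  let eY := TensorProduct.AlgebraTensorModule.cancelBaseChange (MvPolynomial (Fin d) R) T' T' N Y
  have comm : ∀ z, eY (LinearMap.lTensor N g z) = f.lTensor N (eX z) := fun z => by
    induction z using TensorProduct.induction_on with
    | zero => simp
    | tmul a b =>
      induction b using TensorProduct.induction_on with
      | zero => simp
      | tmul t x => simp [eX, eY, g]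
      | add a b ha hb => simp only [TensorProduct.tmul_add, map_add, ha, hb]
    | add a b ha hb => simp only [map_add, ha, hb]
  intro a b hab
  obtain ⟨a, rfl⟩ := eX.surjective a
  obtain ⟨b, rfl⟩ := eX.surjective b
  have : eY (LinearMap.lTensor N g a) = eY (LinearMap.lTensor N g b) := by rw [comm, comm]; exact hab
  exact congrArg eX (key (eY.injective this))

end Groth.Agent.FlatEquidim
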